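import Groth.Agent.ClSubLib.Basic
import Groth.Agent.DvrDom.Spread
import Groth.Prelude.Def_ClSub2
import Mathlib

/-!
A directed family of closed subsets whose intersection is proper over an affine base has a member proper
over the base (ultraproduct form of the valuative criterion).
-/

set_option autoImplicit false
set_option linter.style.haveILetI false

universe u

open CategoryTheory CategoryTheory.Limits AlgebraicGeometry IsLocalRing Filter Opposite

namespace Groth.Agent.ShriekColim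

open Groth.Agent.DvrDom

variable {W V : Scheme.{u}}

/-- morphisms from reduced schemes with image in a closed subset factor through its reduced structure -/
theorem exists_lift_redι {T : Scheme.{u}} [IsReduced T] (g : T ⟶ W) (C : Set W) (hC : IsClosed C)
    (h : Set.range g ⊆ C) : ∃ l, l ≫ ClSubLib.redι C hC = g := by
  haveI : Surjective (pullback.fst g (ClSubLib.redι C hC)) := ⟨fun t => by
    obtain ⟨z, hz⟩ := (ClSubLib.range_redι C hC).ge (h ⟨t, rfl⟩)
    obtain ⟨v, hv, -⟩ := Scheme.Pullback.exists_preimage_pullback t z hz.symm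
    exact ⟨v, hv⟩⟩
  haveI := isIso_of_isClosedImmersion_of_surjective (pullback.fst g (ClSubLib.redι C hC))
  exact ⟨inv (pullback.fst g (ClSubLib.redι C hC)) ≫ pullback.snd _ _, by
    rw [Category.assoc, ← pullback.condition, IsIso.inv_hom_id_assoc]⟩

variable (p : W ⟶ V) [IsSeparated p] [LocallyOfFiniteType p] [IsAffine V] [CompactSpace W]

set_option maxHeartbeats 1000000 in
theorem exists_isProperOver_of_directed {I : Type u} [Nonempty I] (C : I → Set W) (hc : ∀ i, IsClosed (C i))
    (hd : Directed (fun a b => b ⊆ a) C) (h : ClSub.IsProperOver p (⋂ i, C i)) :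
    ∃ i, ClSub.IsProperOver p (C i) := by
  classical
  haveI : QuasiCompact p := (quasiCompact_iff_compactSpace p).mpr ‹_›
  by_contra hcon
  -- valuative squares without lift
  have hno : ∀ i, ∃ S : ValuativeCommSq (ClSubLib.redι (C i) (hc i) ≫ p), ¬ S.commSq.HasLift := by
    intro i
    by_contra hS
    push Not at hS
    refine hcon ⟨i, hc i, ?_⟩
    haveI := UniversallyClosed.of_valuativeCriterion (ClSubLib.redι (C i) (hc i) ≫ p) hS
    exact { toUniversallyClosed := this }
  choose S₀ hS₀ using hno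
  let x₀ : ∀ i, Spec (CommRingCat.of (S₀ i).K) ⟶ W := fun i => (S₀ i).i₁ ≫ ClSubLib.redι (C i) (hc i)
  -- finitely many affine charts; one of them is met cofinally
  obtain ⟨cov, hcov⟩ := isCompact_univ.elim_finite_subcover (fun U : W.affineOpens => (U.1 : Set W))
    (fun U => U.1.2) (fun x _ => by
      obtain ⟨_, ⟨U, hU, rfl⟩, hx, -⟩ := W.isBasis_affineOpens.exists_subset_of_mem_open (Set.mem_univ x) isOpen_univ
      exact Set.mem_iUnion.mpr ⟨⟨U, hU⟩, hx⟩)
  obtain ⟨j, hjI⟩ : ∃ j : W.affineOpens, ∀ i, ∃ k, C k ⊆ C i ∧ x₀ k (closedPoint (S₀ k).K) ∈ j.1 := by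
    by_contra hh
    push Not at hh
    choose i hi using hh
    haveI : IsTrans (Set W) (fun a b => b ⊆ a) := ⟨fun _ _ _ h₁ h₂ => h₂.trans h₁⟩
    obtain ⟨k, hk⟩ : ∃ k, ∀ j ∈ cov, C k ⊆ C (i j) := by
      obtain ⟨k, hk⟩ := Directed.finset_le (r := fun a b : Set W => b ⊆ a) hd (cov.image i)
      exact ⟨k, fun j hj => hk _ (Finset.mem_image_of_mem _ hj)⟩
    obtain ⟨j, hj, hx⟩ : ∃ j ∈ cov, x₀ k (closedPoint (S₀ k).K) ∈ j.1 := by
      simpa using hcov (Set.mem_univ (x₀ k (closedPoint (S₀ k).K)))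
    exact hi j k (hk j hj) hx
  let U : W.Opens := j.1
  have hU : IsAffineOpen U := j.2
  let J : Type u := {i : I // x₀ i (closedPoint (S₀ i).K) ∈ U}
  let S := fun t : J => S₀ t.1
  let x := fun t : J => x₀ t.1
  haveI : Nonempty J := by
    obtain ⟨i⟩ := ‹Nonempty I›
    obtain ⟨k, -, hk⟩ := hjI i
    exact ⟨⟨k, hk⟩⟩
  let T : I → Set J := fun i => {t | C t.1 ⊆ C i}
  have hne : (⨅ i, 𝓟 (T i)).NeBot := by
    refine iInf_neBot_of_directed ?_ fun i => ?_
    · intro a b
      obtain ⟨c, ha, hb⟩ := hd a b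
      exact ⟨c, principal_mono.mpr fun t ht => ht.trans ha, principal_mono.mpr fun t ht => ht.trans hb⟩
    · obtain ⟨k, h1, h2⟩ := hjI i
      exact principal_neBot_iff.mpr ⟨⟨k, h2⟩, h1⟩
  let F : Ultrafilter J := Ultrafilter.of (⨅ i, 𝓟 (T i))
  have hF : ∀ i, ∀ᶠ t in (F : Filter J), C t.1 ⊆ C i := fun i =>
    Ultrafilter.of_le _ (mem_iInf_of_mem i (mem_principal_self _))
  let K : J → Type u := fun t => (S t).K
  let instK : ∀ t, Field (K t) := fun t => (S t).field
  let Vv : ∀ t, ValuationSubring (K t) := fun t =>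
    ⟨(algebraMap (S t).R (S t).K).range, ValuationRing.isInteger_or_isInteger (S t).R⟩
  let Vs := UProd.valSubring F K Vv
  have hxr : ∀ t : J, Set.range (x t) ⊆ (U : Set W) := fun t => range_subset_of_closedPoint_mem _ t.2
  let η : ∀ t : J, (Γ(W, U) →+* K t) := fun t => (pointHom hU (x t) (hxr t)).hom
  have hA := isAffineOpen_top V
  let ρ : ∀ t : J, Γ(V, ⊤) ⟶ CommRingCat.of (S t).R := fun t =>
    pointHom hA (S t).i₂ (by simp)
  have hUA : ∀ {U' : W.Opens}, U' ≤ p ⁻¹ᵁ ⊤ := fun {_} => le_top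
  have hη : ∀ t a, η t ((p.appLE ⊤ U hUA).hom a) = algebraMap (S t).R (S t).K ((ρ t).hom a) := by
    intro t a
    have : p.appLE ⊤ U hUA ≫ pointHom hU (x t) (hxr t) = ρ t ≫ CommRingCat.ofHom (algebraMap (S t).R (S t).K) := by
      apply pointHom_ext hA
      rw [Spec.map_comp, Category.assoc, IsAffineOpen.SpecMap_appLE_fromSpec p hA hU hUA,
        ← Category.assoc, SpecMap_pointHom, Spec.map_comp, Category.assoc (Spec.map _) (Spec.map (ρ t)) _,
        SpecMap_pointHom]
      exact (Category.assoc _ _ _).trans (S t).commSq.w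
    exact congr($(this).hom a)
  let φ : Γ(W, U) →+* UProd.Prod F K := (UProd.mk F K).comp (RingHom.pi η)
  let xs : Spec (CommRingCat.of (UProd.Prod F K)) ⟶ W := Spec.map (CommRingCat.ofHom φ) ≫ hU.fromSpec
  have hxsU : Set.range xs ⊆ (U : Set W) := by
    rintro _ ⟨q, rfl⟩
    rw [← hU.range_fromSpec]
    exact ⟨_, (Scheme.Hom.comp_apply _ _ q).symm⟩
  have hφxs : pointHom hU xs hxsU = CommRingCat.ofHom φ := pointHom_ext _ (SpecMap_pointHom _ _ _)
  -- its point lies in all the closed sets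
  have hZ : Set.range xs ⊆ ⋂ i, C i := by
    rintro _ ⟨q, rfl⟩
    obtain rfl := Subsingleton.elim q (closedPoint _)
    refine Set.mem_iInter.mpr fun i => by_contra fun hq => ?_
    have hqU : xs (closedPoint _) ∈ U := hxsU ⟨_, rfl⟩
    obtain ⟨g, hg, hgq⟩ := hU.exists_basicOpen_le (V := U ⊓ ⟨(C i)ᶜ, (hc i).isOpen_compl⟩) ⟨_, hqU, hq⟩ hqU
    have hne0 := (mem_basicOpen_iff_pointHom hU xs hxsU g).mp hgq
    rw [hφxs] at hne0
    refine hne0 (Eq.trans ((UProd.mk_eq_iff F K).mpr (?_ : ∀ᶠ t in (F : Filter J), η t g = (0 : ∀ t, K t) t)) (map_zero _))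
    filter_upwards [hF i] with t ht
    by_contra hh
    have := (hg ((mem_basicOpen_iff_pointHom hU (x t) (hxr t) g).mpr hh)).2
    apply this
    apply ht
    exact (ClSubLib.range_redι (C t.1) (hc t.1)).le ⟨_, (Scheme.Hom.comp_apply (S t).i₁ _ _).symm⟩
  -- valuative criterion for the intersection
  obtain ⟨hcZ, hpZ⟩ := h
  haveI : IsProper (ClSubLib.redι (⋂ i, C i) hcZ ≫ p) := hpZ
  obtain ⟨xz, hxz⟩ := exists_lift_redι xs _ hcZ hZ
  let ρs : Γ(V, ⊤) →+* Vs := ((UProd.mk F K).comp
    (RingHom.pi fun t => (algebraMap (S t).R (S t).K).comp (ρ t).hom)).codRestrict Vs.toSubring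
      (fun a => (UProd.mk_mem_valSubring_iff F K Vv).mpr (Eventually.of_forall fun t => ⟨_, rfl⟩))
  let S₁ : ValuativeCommSq (ClSubLib.redι (⋂ i, C i) hcZ ≫ p) :=
    { R := Vs
      K := UProd.Prod F K
      i₁ := xz
      i₂ := Spec.map (CommRingCat.ofHom ρs) ≫ hA.fromSpec
      commSq := ⟨by
        rw [← Category.assoc, hxz, Category.assoc, ← IsAffineOpen.SpecMap_appLE_fromSpec p hA hU hUA,
          ← Spec.map_comp_assoc, ← Spec.map_comp_assoc]
        refine congrArg (fun ψ => Spec.map ψ ≫ hA.fromSpec) ?_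
        ext a
        exact congrArg (UProd.mk F K) (funext fun t => hη t a)⟩ }
  have hval : ValuativeCriterion.Existence (ClSubLib.redι (⋂ i, C i) hcZ ≫ p) := by
    have h : @UniversallyClosed _ _ (ClSubLib.redι (⋂ i, C i) hcZ ≫ p) := inferInstance
    rw [UniversallyClosed.eq_valuativeCriterion] at h
    exact h.1
  obtain ⟨⟨lz, hl₁, hl₂⟩⟩ := (hval S₁).exists_lift
  let l := lz ≫ ClSubLib.redι (⋂ i, C i) hcZ
  have hpsl : Spec.map (CommRingCat.ofHom Vs.subtype) ≫ l = xs := by
    rw [← Category.assoc, ← hxz]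
    exact congrArg (· ≫ _) hl₁
  obtain ⟨m, -, hm⟩ : ∃ m ∈ cov, l (closedPoint Vs) ∈ m.1 := by simpa using hcov (Set.mem_univ (l (closedPoint Vs)))
  let U' : W.Opens := m.1
  have hU' : IsAffineOpen U' := m.2
  have hlU : Set.range l ⊆ (U' : Set W) := range_subset_of_closedPoint_mem _ hm
  let ψ := pointHom hU' l hlU
  have hpsm : Set.range xs ⊆ (U' : Set W) := by
    rw [← hpsl]
    rintro _ ⟨q, rfl⟩
    exact hlU ⟨_, (Scheme.Hom.comp_apply _ _ q).symm⟩
  have hψps : pointHom hU' xs hpsm = ψ ≫ CommRingCat.ofHom Vs.subtype :=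
    pointHom_ext _ (by rw [SpecMap_pointHom, Spec.map_comp, Category.assoc, SpecMap_pointHom, hpsl])
  obtain ⟨g, g', hgg, hpg⟩ := exists_basicOpen_le_affine_inter hU hU'
    (xs (closedPoint (UProd.Prod F K))) ⟨hxsU ⟨_, rfl⟩, hpsm ⟨_, rfl⟩⟩
  have hD : IsAffineOpen (W.basicOpen g) := hU.basicOpen g
  have hDm : W.basicOpen g ≤ U' := hgg ▸ W.basicOpen_le g'
  have hgne : φ g ≠ 0 := by
    have := (mem_basicOpen_iff_pointHom hU xs hxsU g).mp hpg
    rwa [hφxs] at this
  have hDev : ∀ᶠ t in (F : Filter J), x t (closedPoint (S t).K) ∈ W.basicOpen g := by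
    by_contra hn
    rw [← Ultrafilter.eventually_not] at hn
    refine hgne (Eq.trans ((UProd.mk_eq_iff F K).mpr (?_ : ∀ᶠ t in (F : Filter J), η t g = (0 : ∀ t, K t) t)) (map_zero _))
    filter_upwards [hn] with t ht
    by_contra hne'
    exact ht ((mem_basicOpen_iff_pointHom hU _ (hxr t) g).mpr hne')
  have hint : ∀ a : Γ(W, U'), ∀ᶠ t in (F : Filter J), ∀ hh : Set.range (x t) ⊆ (U' : Set W),
      (pointHom hU' (x t) hh).hom a ∈ Vv t := by
    intro a
    have := hU.isLocalization_basicOpen g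
    obtain ⟨⟨b, ⟨_, n, rfl⟩⟩, hb⟩ := IsLocalization.surj (Submonoid.powers g)
      ((W.presheaf.map (homOfLE hDm).op).hom a)
    have hbD : ∀ {L : Type u} [CommRing L] (q : Spec (CommRingCat.of L) ⟶ W)
        (hp : Set.range q ⊆ (W.basicOpen g : Set W)),
        (pointHom hU' q (hp.trans hDm)).hom a *
          (pointHom hU q (hp.trans (W.basicOpen_le g))).hom g ^ n =
        (pointHom hU q (hp.trans (W.basicOpen_le g))).hom b := by
      intro L _ q hp
      rw [← pointHom_map hU' hD hDm q hp, ← pointHom_map hU hD (W.basicOpen_le g) q hp]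
      have hb' : (W.presheaf.map (homOfLE hDm).op).hom a *
          (W.presheaf.map (homOfLE (W.basicOpen_le g)).op).hom (g ^ n) =
          (W.presheaf.map (homOfLE (W.basicOpen_le g)).op).hom b := hb
      simpa only [CommRingCat.hom_comp, RingHom.comp_apply, map_mul, map_pow] using
        congrArg (pointHom hD q hp).hom hb'
    have hK := hbD xs (range_subset_of_closedPoint_mem _ hpg)
    rw [hφxs, hψps] at hK
    obtain ⟨r, hr, hra⟩ := (ψ.hom a).2
    change ((ψ.hom a).1 : UProd.Prod F K) * φ g ^ n = φ b at hK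
    rw [← hra] at hK
    change UProd.mk F K r * UProd.mk F K (fun t => η t g) ^ n = UProd.mk F K (fun t => η t b) at hK
    rw [← map_pow, ← map_mul, UProd.mk_eq_iff] at hK
    filter_upwards [hK, hDev] with t ht htD hh
    have h1 := hbD (x t) (range_subset_of_closedPoint_mem _ htD)
    have hg0 : η t g ≠ 0 := (mem_basicOpen_iff_pointHom hU _ (hxr t) g).mp htD
    have : (pointHom hU' (x t) hh).hom a = r t :=
      mul_right_cancel₀ (pow_ne_zero n hg0) (Eq.trans h1 ht.symm)
    exact this ▸ hr t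
  have hmev : ∀ᶠ t in (F : Filter J), Set.range (x t) ⊆ (U' : Set W) := by
    filter_upwards [hDev] with t ht
    exact range_subset_of_closedPoint_mem _ (hDm ht)
  have hft := LocallyOfFiniteType.finiteType_appLE p hA hU' hUA
  algebraize [(p.appLE ⊤ U' hUA).hom]
  obtain ⟨G, hG⟩ := hft.out
  obtain ⟨t, htm, htG⟩ := (hmev.and ((G.eventually_all).mpr fun a _ => hint a)).exists
  have hη' : ∀ a, (pointHom hU' (x t) htm).hom ((p.appLE ⊤ U' hUA).hom a) =
      algebraMap (S t).R (S t).K ((ρ t).hom a) := by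
    intro a
    have : p.appLE ⊤ U' hUA ≫ pointHom hU' (x t) htm = ρ t ≫ CommRingCat.ofHom (algebraMap (S t).R (S t).K) := by
      apply pointHom_ext hA
      rw [Spec.map_comp, Category.assoc, IsAffineOpen.SpecMap_appLE_fromSpec p hA hU' hUA,
        ← Category.assoc, SpecMap_pointHom, Spec.map_comp, Category.assoc (Spec.map _) (Spec.map (ρ t)) _,
        SpecMap_pointHom]
      exact (Category.assoc _ _ _).trans (S t).commSq.w
    exact congr($(this).hom a)
  have hall : ∀ a, (pointHom hU' (x t) htm).hom a ∈ Vv t := by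
    intro a
    have ha : a ∈ Algebra.adjoin Γ(V, ⊤) (G : Set Γ(W, U')) := hG ▸ trivial
    induction ha using Algebra.adjoin_induction with
    | mem a ha => exact htG a ha htm
    | algebraMap r => exact ⟨(ρ t).hom r, (hη' r).symm⟩
    | add a b _ _ ha hb => rw [map_add]; exact add_mem ha hb
    | mul a b _ _ ha hb => rw [map_mul]; exact mul_mem ha hb
  choose e he using hall
  have hinj : Function.Injective (algebraMap (S t).R (S t).K) := IsFractionRing.injective _ _
  let ε : Γ(W, U') →+* (S t).R :=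
    { toFun := e
      map_one' := hinj (by rw [he]; simp)
      map_mul' := fun a b => hinj (by rw [map_mul, he, he, he, map_mul])
      map_zero' := hinj (by rw [he]; simp)
      map_add' := fun a b => hinj (by rw [map_add, he, he, he, map_add]) }
  let L := Spec.map (CommRingCat.ofHom ε) ≫ hU'.fromSpec
  have hL : Spec.map (CommRingCat.ofHom (algebraMap (S t).R (S t).K)) ≫ L = x t := by
    rw [← Spec.map_comp_assoc]
    have : CommRingCat.ofHom ε ≫ CommRingCat.ofHom (algebraMap (S t).R (S t).K) = pointHom hU' (x t) htm := by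
      ext a; exact he a
    rw [this, SpecMap_pointHom]
  haveI : _root_.IsReduced (CommRingCat.of (S t).R) := inferInstanceAs (_root_.IsReduced (S t).R)
  obtain ⟨Lc, hLc⟩ := exists_lift_redι L (C t.1) (hc t.1) (by
    rintro _ ⟨q, rfl⟩
    let gen : Spec (CommRingCat.of (S t).R) :=
      Spec.map (CommRingCat.ofHom (algebraMap (S t).R (S t).K)) (closedPoint (S t).K)
    have hgen : L gen ∈ C t.1 := by
      have e : L gen = x t (closedPoint (S t).K) := by rw [← hL]; exact (Scheme.Hom.comp_apply _ _ _).symm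
      rw [e]
      exact (ClSubLib.range_redι (C t.1) (hc t.1)).le ⟨_, (Scheme.Hom.comp_apply (S t).i₁ _ _).symm⟩
    have hs : gen ⤳ q := (PrimeSpectrum.le_iff_specializes _ _).mp (by
      intro a ha
      have ha0 : algebraMap (S t).R (S t).K a = 0 := by
        have : algebraMap (S t).R (S t).K a ∈ maximalIdeal (S t).K := ha
        rwa [IsLocalRing.maximalIdeal_eq_bot, Ideal.mem_bot] at this
      rw [(map_eq_zero_iff _ hinj).mp ha0]
      exact zero_mem _)
    exact (hs.map L.continuous).mem_closed (hc t.1) hgen)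
  refine hS₀ t.1 ⟨⟨⟨Lc, ?_, ?_⟩⟩⟩
  · rw [← cancel_mono (ClSubLib.redι (C t.1) (hc t.1)), Category.assoc, hLc]
    exact hL
  · rw [← Category.assoc, hLc, Category.assoc, ← IsAffineOpen.SpecMap_appLE_fromSpec p hA hU' hUA,
      ← Spec.map_comp_assoc]
    refine (congrArg (fun χ => Spec.map χ ≫ hA.fromSpec) ?_).trans (SpecMap_pointHom hA (S t).i₂ (by simp))
    ext a
    exact hinj ((he _).trans (hη' a))

end Groth.Agent.ShriekColim
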