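import Groth.Agent.ShriekColim.Local
import Groth.Agent.ShriekColim.ProperLimit
import Groth.Agent.ShriekLQF.Comp
import Mathlib

/-!
The direct image with proper support is left exact and commutes with filtered colimits, for every separated
morphism locally of finite type.
-/

set_option autoImplicit false
set_option backward.isDefEq.respectTransparency false
set_option linter.style.haveILetI false

universe u

open CategoryTheory CategoryTheory.Limits AlgebraicGeometry Opposite

namespace Groth.Agent.ShriekColim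

open Groth.Agent.ShriekLQF Groth.Agent.EtSect

variable {X Y : Scheme.{u}} (f : X ⟶ Y)

section exact

variable [LocallyOfFiniteType f]

theorem exists_preimage {S : ShortComplex (EtCoh.Ab X)} (hS : S.Exact) [Mono S.f] (U : X.Etale)
    (t : EtCoh.sect S.X₂ U) (h : S.g.hom.app (op U) t = 0) : ∃ x, S.f.hom.app (op U) x = t := by
  let Γ : EtCoh.Ab X ⥤ AddCommGrpCat.{u + 1} :=
    sheafToPresheaf _ _ ⋙ (evaluation X.Etaleᵒᵖ AddCommGrpCat.{u + 1}).obj (op U)
  haveI : Γ.Additive := { map_add := rfl }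
  haveI : PreservesFiniteLimits Γ := comp_preservesFiniteLimits _ _
  exact (ShortComplex.ab_exact_iff _).mp
    ((S.map Γ).exact_of_f_is_kernel (KernelFork.mapIsLimit _ hS.fIsKernel Γ)) t h

theorem preservesFiniteLimits : PreservesFiniteLimits (EtShriek.lowerShriek f) := by
  refine ((EtShriek.lowerShriek f).preservesFiniteLimits_tfae.out 0 3).mp fun S hS => ?_
  haveI := hS.mono_f
  haveI : (EtCoh.push f).PreservesMonomorphisms :=
    (EtCoh.push f).preservesMonomorphisms_of_adjunction (EtCoh.pullPushAdj f)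
  haveI := fun F => mono_toPush f F
  haveI hm : Mono ((EtShriek.lowerShriek f).map S.f) := by
    haveI : Mono ((EtShriek.lowerShriek f).map S.f ≫ EtShriek.lowerShriekToPush f S.X₂) := by
      rw [toPush_natural]; infer_instance
    exact mono_of_mono _ (EtShriek.lowerShriekToPush f S.X₂)
  refine ⟨(S.map (EtShriek.lowerShriek f)).exact_of_f_is_kernel ?_, hm⟩
  have key : ∀ (T : EtCoh.Ab Y) (a : T ⟶ (EtShriek.lowerShriek f).obj S.X₂),
      a ≫ (EtShriek.lowerShriek f).map S.g = 0 →
        ∃ l, l ≫ (EtShriek.lowerShriek f).map S.f = a := by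
    intro T a ha
    obtain ⟨φ, hφ⟩ := exists_hom_of_range_le (a ≫ EtShriek.lowerShriekToPush f S.X₂)
      ((EtShriek.lowerShriek f).map S.f ≫ EtShriek.lowerShriekToPush f S.X₂) (fun V z => by
        let t : EtCoh.sect S.X₂ ((EtCoh.bc f).obj V) := (EtShriek.lowerShriekToPush f S.X₂).hom.app (op V) (a.hom.app (op V) z)
        have ht : S.g.hom.app (op ((EtCoh.bc f).obj V)) t = 0 := by
          refine (ConcreteCategory.congr_hom (congrArg (fun q => q.hom.app (op V)) (toPush_natural f S.g))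
            (a.hom.app (op V) z)).symm.trans ?_
          have : ((EtShriek.lowerShriek f).map S.g).hom.app (op V) (a.hom.app (op V) z) = 0 :=
            ConcreteCategory.congr_hom (congrArg (fun q => q.hom.app (op V)) ha) z
          exact (congrArg ((EtShriek.lowerShriekToPush f S.X₃).hom.app (op V)) this).trans (map_zero _)
        obtain ⟨x, hx⟩ := exists_preimage hS.exact _ t ht
        obtain ⟨w, hw⟩ := (range_toPush f S.X₁ V x).mpr (by
          rw [sectSupp_app_of_mono S.f _ x, hx]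
          exact (range_toPush f S.X₂ V t).mp ⟨_, rfl⟩)
        refine ⟨w, ?_⟩
        rw [toPush_natural]
        exact (congrArg (S.f.hom.app (op ((EtCoh.bc f).obj V))) hw).trans hx)
    exact ⟨φ, by rwa [← cancel_mono (EtShriek.lowerShriekToPush f S.X₂), Category.assoc]⟩
  choose l hl using key
  exact KernelFork.IsLimit.ofι _ _ (fun {T} a ha => l T a ha) (fun {T} a ha => hl T a ha)
    (fun {T} a ha m hm' => (cancel_mono ((EtShriek.lowerShriek f).map S.f)).mp (hm'.trans (hl T a ha).symm))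

end exact

theorem exists_affine_nbhd {U : Y.Etale} (W : Y.Etale) (g : W ⟶ U) (x : U.left) (hx : x ∈ Set.range g.left) :
    ∃ (W' : Y.Etale) (i : W' ⟶ W), IsAffine W'.left ∧ x ∈ Set.range (i ≫ g).left := by
  obtain ⟨w, hw⟩ := hx
  obtain ⟨_, ⟨O, hO, rfl⟩, hwO, -⟩ := W.left.isBasis_affineOpens.exists_subset_of_mem_open
    (Set.mem_univ w) isOpen_univ
  have := W.prop
  let W' : Y.Etale := Scheme.Etale.mk (Scheme.Opens.ι O ≫ W.hom)
  refine ⟨W', MorphismProperty.Over.homMk (Scheme.Opens.ι O) rfl, hO, ?_⟩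
  obtain ⟨w', hw'⟩ := (Scheme.Opens.range_ι O).ge hwO
  exact ⟨w', by
    change g.left (Scheme.Opens.ι O w') = x
    rw [hw', hw]⟩

theorem isCompact_of_isProperOver {P V : Scheme.{u}} [IsAffine V] {p : P ⟶ V} {Z : Set P}
    (h : ClSub.IsProperOver p Z) : IsCompact Z := by
  obtain ⟨hZ, hp⟩ := h
  haveI : IsProper (ClSubLib.redι Z hZ ≫ p) := hp
  haveI := QuasiCompact.compactSpace_of_compactSpace (ClSubLib.redι Z hZ ≫ p)
  rw [← ClSubLib.range_redι Z hZ]
  exact isCompact_range (ClSubLib.redι Z hZ).continuous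

/-- properness over the base of closed subsets of an open subscheme -/
theorem isProperOver_open_of_subset {P V : Scheme.{u}} (p : P ⟶ V) [LocallyOfFiniteType p] (W : P.Opens)
    {Z : Set P} (h : ClSub.IsProperOver p Z) (hZW : Z ⊆ W) :
    ClSub.IsProperOver (W.ι ≫ p) (W.ι ⁻¹' Z) := by
  obtain ⟨hZ, hp⟩ := h
  let i := ClSubLib.redι Z hZ
  haveI : IsProper (i ≫ p) := hp
  have hr : Set.range i ⊆ Set.range W.ι := by
    rw [ClSubLib.range_redι, Scheme.Opens.range_ι]; exact hZW
  let m := IsOpenImmersion.lift W.ι i hr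
  have hm : m ≫ W.ι = i := IsOpenImmersion.lift_fac _ _ _
  haveI : IsClosedImmersion (m ≫ W.ι) := by rw [hm]; infer_instance
  haveI : IsClosedImmersion m := IsClosedImmersion.of_comp m W.ι
  haveI : IsProper (m ≫ W.ι ≫ p) := by rw [← Category.assoc, hm]; infer_instance
  convert ClSubLib.isProperOver_range (W.ι ≫ p) m using 1
  have e : W.ι '' Set.range m = Z := by
    rw [← Set.range_comp, show W.ι ∘ m = (m ≫ W.ι : _ → _) from funext fun q => (Scheme.Hom.comp_apply _ _ q).symm,
      hm, ClSubLib.range_redι]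
  conv_lhs => rw [← e]
  exact Set.preimage_image_eq _ W.ι.isOpenEmbedding.injective

theorem isProperOver_image_open {P V : Scheme.{u}} (p : P ⟶ V) [LocallyOfFiniteType p] [IsSeparated p]
    (W : P.Opens) {C : Set W} (h : ClSub.IsProperOver (W.ι ≫ p) C) :
    ClSub.IsProperOver p (W.ι '' C) := by
  obtain ⟨hC, hp⟩ := h
  let g := ClSubLib.redι C hC ≫ W.ι
  haveI : IsProper (g ≫ p) := by rw [Category.assoc]; exact hp
  haveI : IsProper g := IsProper.of_comp g p
  convert ClSubLib.isProperOver_range p g using 1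
  rw [show (g : _ → P) = W.ι ∘ ClSubLib.redι C hC from funext fun q => Scheme.Hom.comp_apply _ _ q,
    Set.range_comp, ClSubLib.range_redι]

variable [IsSeparated f] [LocallyOfFiniteType f] {J : Type u} [SmallCategory J] [IsFiltered J]
  {K : J ⥤ EtCoh.Ab X} {c : Cocone K}

theorem toPush_app_natural {F G : EtCoh.Ab X} (m : F ⟶ G) (V : Y.Etale) (z : EtCoh.sect ((EtShriek.lowerShriek f).obj F) V) :
    (EtShriek.lowerShriekToPush f G).hom.app (op V) (((EtShriek.lowerShriek f).map m).hom.app (op V) z) =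
      m.hom.app (op ((EtCoh.bc f).obj V)) ((EtShriek.lowerShriekToPush f F).hom.app (op V) z) :=
  ConcreteCategory.congr_hom (congrArg (fun q => q.hom.app (op V)) (toPush_natural f m)) z

/-- over an affine object the sections of `f_!` of the colimit come from a finite stage -/
theorem exists_rep_affine (hc : IsColimit c) (V : Y.Etale) [IsAffine V.left]
    (y : EtCoh.sect ((EtShriek.lowerShriek f).obj c.pt) V) :
    ∃ (j : J) (z : EtCoh.sect ((EtShriek.lowerShriek f).obj (K.obj j)) V),
      ((EtShriek.lowerShriek f).map (c.ι.app j)).hom.app (op V) z = y := by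
  classical
  let P := (EtCoh.bc f).obj V
  let p := EtShriek.prV f V
  haveI : IsSeparated p := MorphismProperty.pullback_fst _ _ ‹_›
  haveI : LocallyOfFiniteType p := MorphismProperty.pullback_fst _ _ ‹_›
  haveI : QuasiSeparatedSpace P.left := quasiSeparatedSpace_of_quasiSeparated p
  let t : EtCoh.sect c.pt P := (EtShriek.lowerShriekToPush f c.pt).hom.app (op V) y
  let Z := EtShriek.sectSupp c.pt P t
  have hZ : ClSub.IsProperOver p Z := (range_toPush f c.pt V t).mp ⟨y, rfl⟩
  obtain ⟨cov, hcov⟩ := (isCompact_of_isProperOver hZ).elim_finite_subcover (fun U : P.left.affineOpens => (U.1 : Set P.left))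
    (fun U => U.1.2) (fun x _ => by
      obtain ⟨_, ⟨U, hU, rfl⟩, hx, -⟩ := P.left.isBasis_affineOpens.exists_subset_of_mem_open (Set.mem_univ x) isOpen_univ
      exact Set.mem_iUnion.mpr ⟨⟨U, hU⟩, hx⟩)
  let W : P.left.Opens := ⟨⋃ U ∈ cov, (U.1 : Set P.left), isOpen_biUnion fun U _ => U.1.2⟩
  haveI : CompactSpace W := isCompact_iff_compactSpace.mp (cov.isCompact_biUnion fun U _ => U.2.isCompact)
  haveI : QuasiSeparatedSpace W := QuasiSeparatedSpace.of_isOpenEmbedding W.ι.isOpenEmbedding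
  have := P.prop
  let PW : X.Etale := Scheme.Etale.mk (W.ι ≫ P.hom)
  let iW : PW ⟶ P := MorphismProperty.Over.homMk W.ι rfl
  haveI : CompactSpace PW.left := ‹CompactSpace W›
  haveI : QuasiSeparatedSpace PW.left := ‹QuasiSeparatedSpace W›
  obtain ⟨j, s, hs⟩ := exists_rep hc (U := PW) (c.pt.obj.map iW.op t)
  let I : Type u := Σ k : J, j ⟶ k
  haveI : Nonempty I := ⟨⟨j, 𝟙 j⟩⟩
  let C : I → Set W := fun i => EtShriek.sectSupp (K.obj i.1) PW ((K.map i.2).hom.app (op PW) s)
  have hmap : ∀ (k : J) (a : j ⟶ k), (c.ι.app k).hom.app (op PW) ((K.map a).hom.app (op PW) s) = c.pt.obj.map iW.op t :=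
    fun k a => (ConcreteCategory.congr_hom (congrArg (fun q => q.hom.app (op PW)) (c.w a)) s).trans hs
  have hinter : ⋂ i, C i = W.ι ⁻¹' Z := by
    have e : W.ι ⁻¹' Z = EtShriek.sectSupp c.pt PW (c.pt.obj.map iW.op t) := (sectSupp_map c.pt iW t).symm
    rw [e]
    refine Set.Subset.antisymm (fun x hx => by_contra fun hxt => ?_) (Set.subset_iInter fun i => ?_)
    · obtain ⟨U, g, ⟨w, hw⟩, h0⟩ := (mem_iff c.pt (U := PW) (c.pt.obj.map iW.op t) x).mp hxt
      obtain ⟨U', g', ⟨w', hw'⟩, k, a, hk⟩ := exists_local_zero hc ((K.obj j).obj.map g.op s) (by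
        rw [NatTrans.naturality_apply, hs]; exact h0) w
      refine Set.mem_iInter.mp hx ⟨k, a⟩ U' (g' ≫ g) ⟨w', by
        change g.left (g'.left w') = x
        rw [hw', hw]⟩ ?_
      rw [← NatTrans.naturality_apply]
      refine Eq.trans (congrArg ((K.map a).hom.app (op U')) ?_) hk
      exact ConcreteCategory.congr_hom ((K.obj j).obj.map_comp g.op g'.op) s
    · rw [← hmap i.1 i.2]
      exact EtShriek.sectSupp_map_subset (c.ι.app i.1) PW _
  have hd : Directed (fun a b => b ⊆ a) C := fun a b => by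
    obtain ⟨l, u, v, huv⟩ := IsFiltered.span a.2 b.2
    refine ⟨⟨l, a.2 ≫ u⟩, ?_, ?_⟩
    · change EtShriek.sectSupp (K.obj l) PW ((K.map (a.2 ≫ u)).hom.app (op PW) s) ⊆ _
      rw [Functor.map_comp]
      exact EtShriek.sectSupp_map_subset (K.map u) PW _
    · change EtShriek.sectSupp (K.obj l) PW ((K.map (a.2 ≫ u)).hom.app (op PW) s) ⊆ _
      rw [huv, Functor.map_comp]
      exact EtShriek.sectSupp_map_subset (K.map v) PW _
  have hsub : Z ⊆ W := hcov
  obtain ⟨⟨k, a⟩, hk⟩ := exists_isProperOver_of_directed (W.ι ≫ p) C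
    (fun i => isClosed_sectSupp (K.obj i.1) _) hd (hinter.symm ▸ isProperOver_open_of_subset p W hZ hsub)
  have hC' := isProperOver_image_open p W hk
  let s' : EtCoh.sect (K.obj k) PW := (K.map a).hom.app (op PW) s
  let O : P.left.Opens := ⟨(W.ι '' C ⟨k, a⟩)ᶜ, hC'.1.isOpen_compl⟩
  let PO : X.Etale := Scheme.Etale.mk (O.ι ≫ P.hom)
  let iO : PO ⟶ P := MorphismProperty.Over.homMk O.ι rfl
  haveI : Mono iW.left := inferInstanceAs (Mono W.ι)
  have hrO : ∀ q : PO.left, iO.left q ∉ W.ι '' C ⟨k, a⟩ := fun q => (Scheme.Opens.range_ι O).le ⟨q, rfl⟩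
  obtain ⟨r, hr⟩ := exists_amalg (K.obj k) (fun b : Bool => cond b PW PO)
    (fun b => match b with | true => iW | false => iO) (fun q => by
      by_cases hq : q ∈ W.ι '' C ⟨k, a⟩
      · obtain ⟨w, -, rfl⟩ := hq
        exact ⟨true, w, rfl⟩
      · exact ⟨false, (Scheme.Opens.range_ι O).ge hq⟩)
    (fun b => match b with | true => s' | false => 0) (by
      have hzero : ∀ (T : X.Etale) (a' : T ⟶ PW) (b' : T ⟶ PO), a' ≫ iW = b' ≫ iO → (K.obj k).obj.map a'.op s' = 0 := by
        intro T a' b' hab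
        refine (map_eq_zero_iff (K.obj k) s' a').mpr ?_
        rintro _ ⟨q, rfl⟩ hq
        exact hrO (b'.left q) ⟨_, hq, congr($(congrArg (fun m : T ⟶ P => m.left) hab) q)⟩
      rintro (_ | _) (_ | _) T a' b' hab
      · simp
      · rw [map_zero]; exact (hzero T b' a' hab.symm).symm
      · rw [map_zero]; exact hzero T a' b' hab
      · rw [MorphismProperty.Over.Hom.ext ((cancel_mono iW.left).mp (congrArg (fun m => m.left) hab) : a'.left = b'.left)])
  have hrW : (K.obj k).obj.map iW.op r = s' := hr true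
  have hrO' : (K.obj k).obj.map iO.op r = 0 := hr false
  have hsupp : EtShriek.sectSupp (K.obj k) P r = W.ι '' C ⟨k, a⟩ := by
    refine Set.Subset.antisymm (fun q hq => by_contra fun hn => ?_) ?_
    · obtain ⟨o, rfl⟩ := (Scheme.Opens.range_ι O).ge hn
      exact hq PO iO ⟨o, rfl⟩ hrO'
    · rintro _ ⟨w, hw, rfl⟩
      have : w ∈ EtShriek.sectSupp (K.obj k) PW ((K.obj k).obj.map iW.op r) := hrW.symm ▸ hw
      rwa [sectSupp_map] at this
  obtain ⟨z, hz⟩ := (range_toPush f (K.obj k) V r).mpr (hsupp ▸ hC')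
  refine ⟨k, z, ?_⟩
  haveI := mono_toPush f c.pt
  refine mono_iff_app_injective (EtShriek.lowerShriekToPush f c.pt) V ?_
  refine (toPush_app_natural f (c.ι.app k) V z).trans ((congrArg _ hz).trans ?_)
  show _ = t
  rw [← sub_eq_zero]
  refine eq_zero_of_cover c.pt _ fun q => ?_
  by_cases hq : q ∈ W.ι '' C ⟨k, a⟩
  · obtain ⟨w, -, rfl⟩ := hq
    refine ⟨PW, iW, ⟨w, rfl⟩, ?_⟩
    rw [map_sub, sub_eq_zero]
    refine (NatTrans.naturality_apply (c.ι.app k).hom iW.op r).symm.trans ?_
    rw [hrW]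
    exact hmap k a
  · refine ⟨PO, iO, (Scheme.Opens.range_ι O).ge hq, ?_⟩
    rw [map_sub]
    refine sub_eq_zero.mpr ?_
    refine ((NatTrans.naturality_apply (c.ι.app k).hom iO.op r).symm.trans ?_).trans
      ((map_eq_zero_iff c.pt t iO).mpr ?_).symm
    · rw [hrO', map_zero]
    · rintro _ ⟨o, rfl⟩ ho
      refine hrO o ?_
      obtain ⟨w, hw⟩ := (Scheme.Opens.range_ι W).ge (hsub ho)
      exact ⟨w, (hinter.symm.le (show w ∈ W.ι ⁻¹' Z by simpa only [Set.mem_preimage, hw] using ho) |> Set.mem_iInter.mp) ⟨k, a⟩, hw⟩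

/-- over an affine object a section killed in the colimit is killed at a finite stage -/
theorem exists_zero_affine (hc : IsColimit c) (V : Y.Etale) [IsAffine V.left] {j : J}
    (z : EtCoh.sect ((EtShriek.lowerShriek f).obj (K.obj j)) V)
    (h : ((EtShriek.lowerShriek f).map (c.ι.app j)).hom.app (op V) z = 0) :
    ∃ (k : J) (a : j ⟶ k), ((EtShriek.lowerShriek f).map (K.map a)).hom.app (op V) z = 0 := by
  have h0 := toPush_app_natural f (c.ι.app j) V z
  rw [h, map_zero] at h0
  obtain ⟨k, a, ha⟩ := exists_zero_of_isCompact hc _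
    (isCompact_of_isProperOver ((range_toPush f (K.obj j) V _).mp ⟨z, rfl⟩)) h0.symm
  refine ⟨k, a, ?_⟩
  haveI := mono_toPush f (K.obj k)
  refine mono_iff_app_injective (EtShriek.lowerShriekToPush f (K.obj k)) V ?_
  rw [toPush_app_natural, ha, map_zero]

theorem preservesFilteredColimits : PreservesFilteredColimitsOfSize.{u, u} (EtShriek.lowerShriek f) := by
  refine ⟨fun J _ _ => ⟨fun {K} => ⟨fun {c} hc => ⟨?_⟩⟩⟩⟩
  let Fs := EtShriek.lowerShriek f
  let d := colimit.cocone (K ⋙ Fs)
  let φ : d.pt ⟶ Fs.obj c.pt := colimit.desc (K ⋙ Fs) (Fs.mapCocone c)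
  have hι : ∀ (j : J) (W : Y.Etale) (z : EtCoh.sect (Fs.obj (K.obj j)) W),
      φ.hom.app (op W) ((d.ι.app j).hom.app (op W) z) = (Fs.map (c.ι.app j)).hom.app (op W) z := fun j W z =>
    ConcreteCategory.congr_hom (congrArg (fun q => q.hom.app (op W)) (colimit.ι_desc (Fs.mapCocone c) j)) z
  haveI : Mono φ := by
    haveI : ∀ V, Mono (φ.hom.app V) := fun V => by
      rw [AddCommGrpCat.mono_iff_injective, injective_iff_map_eq_zero]
      intro y hy
      refine eq_zero_of_cover d.pt (V := V.unop) y fun x => ?_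
      obtain ⟨W, g, hx, j, z, hz⟩ := exists_local_rep (colimit.isColimit (K ⋙ Fs)) (U := V.unop) y x
      obtain ⟨W', i, hW', hx'⟩ := exists_affine_nbhd W g x hx
      have hz' : (d.ι.app j).hom.app (op W') ((Fs.obj (K.obj j)).obj.map i.op z) = d.pt.obj.map (i ≫ g).op y := by
        refine (NatTrans.naturality_apply (d.ι.app j).hom i.op z).trans ?_
        refine (congrArg (d.pt.obj.map i.op) hz).trans ?_
        rw [← ConcreteCategory.comp_apply, ← Functor.map_comp, ← op_comp]
      obtain ⟨k, a, ha⟩ := exists_zero_affine f hc W' ((Fs.obj (K.obj j)).obj.map i.op z) (by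
        refine (hι j W' _).symm.trans ?_
        rw [hz']
        refine (NatTrans.naturality_apply φ.hom (i ≫ g).op y).trans ?_
        exact (congrArg ((Fs.obj c.pt).obj.map (i ≫ g).op) hy).trans (map_zero _))
      refine ⟨W', i ≫ g, hx', ?_⟩
      rw [← hz']
      refine (ConcreteCategory.congr_hom (congrArg (fun q => q.hom.app (op W')) (d.w a)) _).symm.trans ?_
      exact (congrArg ((d.ι.app k).hom.app (op W')) ha).trans (map_zero _)
    haveI : Mono φ.hom := NatTrans.mono_of_mono_app _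
    exact (sheafToPresheaf _ _).mono_of_mono_map ‹_›
  haveI : Sheaf.IsLocallySurjective φ := ⟨fun {U} y => by
    choose W i hW hx using fun x => exists_affine_nbhd U (𝟙 U) x ⟨x, rfl⟩
    refine GrothendieckTopology.superset_covering _ (S := Sieve.ofArrows W (fun x => i x ≫ 𝟙 U)) ((Sieve.generate_le_iff _ _).mpr ?_) ?_
    · rintro _ _ ⟨x⟩
      haveI := hW x
      obtain ⟨j, z, hz⟩ := exists_rep_affine f hc (W x) ((Fs.obj c.pt).obj.map (i x ≫ 𝟙 U).op y)
      exact ⟨(d.ι.app j).hom.app (op (W x)) z, (hι j (W x) z).trans hz⟩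
    · rw [Scheme.ofArrows_mem_smallEtaleTopology_iff]
      exact Set.eq_univ_of_forall fun x => Set.mem_iUnion.mpr ⟨x, hx x⟩⟩
  haveI : Epi φ := inferInstance
  haveI : IsIso φ := isIso_of_mono_of_epi φ
  haveI : IsIso ((colimit.isColimit (K ⋙ Fs)).desc (Fs.mapCocone c)) := ‹IsIso φ›
  exact IsColimit.ofPointIso (colimit.isColimit (K ⋙ Fs))

end Groth.Agent.ShriekColim
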